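import Cfsg.Agent.OutSol.Known.Classical
import Cfsg.Agent.S0302
import Cfsg.Agent.S0303

/-!
The outer automorphism groups met among the kinds have order prime to three, two exceptions aside.
-/

set_option autoImplicit false
set_option linter.style.haveILetI false

namespace Cfsg.Lib.Fischer.Disc

open Subgroup Cfsg.Lib.OutKnown

universe u v

theorem card_of_surj {Z : Type u} [Group Z] {A : Type v} [Group A] (φ : Z →* A) (hs : Function.Surjective φ) :
    Nat.card Z = Nat.card φ.ker * Nat.card A := by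
  rw [← φ.ker.card_mul_index, index_ker, MonoidHom.range_eq_top.2 hs, Nat.card_congr Subgroup.topEquiv.toEquiv]

theorem card_mult_prod (a b : ℕ) : Nat.card (Multiplicative (ZMod a × ZMod b)) = a * b := by
  rw [Nat.card_congr Multiplicative.toAdd, Nat.card_prod, Nat.card_zmod, Nat.card_zmod]

theorem not_three_of_equiv {X : Type u} [Group X] {Y : Type v} [Group Y] (e : X ≃* Y)
    (h : ¬ 3 ∣ Nat.card (Cfsg.Out Y)) : ¬ 3 ∣ Nat.card (Cfsg.Out X) := by
  rwa [Nat.card_congr (outCongr e).toEquiv]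

theorem alternating_out {n : ℕ} (hn : 5 ≤ n) : ¬ 3 ∣ Nat.card (Cfsg.Out ↥(alternatingGroup (Fin n))) := by
  by_cases h6 : n = 6
  · subst h6
    haveI : Fact (Nat.Prime 3) := ⟨Nat.prime_three⟩
    haveI : Fintype (GaloisField 3 2) := Fintype.ofFinite _
    have hF : Fintype.card (GaloisField 3 2) = 3 ^ 2 := by
      rw [← Nat.card_eq_fintype_card, GaloisField.card 3 2 two_ne_zero]
    obtain ⟨e⟩ := Cfsg.Lib.Classical.PSLNine.psl_nine (F := GaloisField 3 2) (by rw [hF]; rfl)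
    refine not_three_of_equiv e.symm ?_
    obtain ⟨φ, hs, -, hk⟩ := Cfsg.Agent.S2602.result (F := GaloisField 3 2) (p := 3) (f := 2) (by norm_num) hF
      (by norm_num)
    rw [card_of_surj φ hs, hk, Nat.card_congr Multiplicative.toAdd, Nat.card_zmod]
    norm_num
  haveI : Nontrivial (Fin n) := Fin.nontrivial_iff_two_le.2 (by omega)
  have hb := Cfsg.Agent.S2119.result n (by omega) h6
  let q : Equiv.Perm (Fin n) →* Cfsg.Out ↥(alternatingGroup (Fin n)) :=
    (QuotientGroup.mk' _).comp MulAut.conjNormal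
  have hle : alternatingGroup (Fin n) ≤ q.ker := fun σ hσ =>
    (QuotientGroup.eq_one_iff _).2 ⟨⟨σ, hσ⟩, MulEquiv.ext fun y => Subtype.ext rfl⟩
  have hs : Function.Surjective (QuotientGroup.lift _ q hle) := fun y => by
    obtain ⟨φ, rfl⟩ := QuotientGroup.mk'_surjective _ y
    obtain ⟨σ, rfl⟩ := hb.2 φ
    exact ⟨σ, rfl⟩
  intro h
  have h2 : Nat.card (Equiv.Perm (Fin n) ⧸ alternatingGroup (Fin n)) = 2 := by
    rw [← index_eq_card]; exact alternatingGroup.index_eq_two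
  have := h.trans (Subgroup.card_dvd_of_surjective _ hs)
  rw [h2] at this
  omega

theorem plus_three_out {p : ℕ} [Fact p.Prime] (hp : p = 2 ∨ p = 3) :
    ¬ 3 ∣ Nat.card (Cfsg.Out (Cfsg.POmega (ZMod p) (Cfsg.quadFormPlus 3 (ZMod p)))) := by
  obtain ⟨e⟩ := Cfsg.Agent.S0302.result (F := ZMod p)
  refine not_three_of_equiv e ?_
  obtain ⟨φ, hs, -, hk⟩ := Cfsg.Agent.S2601.result (F := ZMod p) (p := p) (f := 1) (n := 4) le_rfl
    (by rw [ZMod.card, pow_one]) (by norm_num)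
  rw [card_of_surj φ hs, hk, card_mult_prod]
  rcases hp with rfl | rfl <;> norm_num

theorem minus_two_out {p : ℕ} [Fact p.Prime] (hp : p = 2 ∨ p = 3) (a b : ZMod p)
    (hab : ∀ z₁ z₂ : ZMod p, z₁ ^ 2 + a * z₁ * z₂ + b * z₂ ^ 2 = 0 → z₁ = 0 ∧ z₂ = 0) :
    ¬ 3 ∣ Nat.card (Cfsg.Out (Cfsg.POmega (ZMod p) (Cfsg.quadFormMinus 2 (ZMod p) a b))) := by
  haveI : Fintype (GaloisField p 2) := Fintype.ofFinite _
  have hK : Fintype.card (GaloisField p 2) = p ^ 2 := by
    rw [← Nat.card_eq_fintype_card, GaloisField.card p 2 two_ne_zero]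
  obtain ⟨e⟩ := Cfsg.Agent.S0303.result (F := ZMod p) (K := GaloisField p 2) (ZMod.card p) hK a b hab
  refine not_three_of_equiv e ?_
  obtain ⟨φ, hs, -, hk⟩ := Cfsg.Agent.S2603.result (K := GaloisField p 2) (p := p) (f := 1) (q := p) (n := 4)
    le_rfl (pow_one p).symm hK (by norm_num) (by omega)
  rw [card_of_surj φ hs, hk, Nat.card_congr Multiplicative.toAdd, Nat.card_zmod]
  rcases hp with rfl | rfl <;> norm_num

theorem odd_out {m : ℕ} (hm : 3 ≤ m) :
    ¬ 3 ∣ Nat.card (Cfsg.Out (Cfsg.POmega (ZMod 3) (Cfsg.quadFormOdd m (ZMod 3)))) := by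
  haveI : Fact (Nat.Prime 3) := ⟨Nat.prime_three⟩
  obtain ⟨e⟩ := Cfsg.Agent.S2604.result (F := ZMod 3) (p := 3) (f := 1) le_rfl (by rw [ZMod.card, pow_one])
    (by norm_num) hm
  rw [Nat.card_congr e.toEquiv, card_mult_prod]
  norm_num

theorem plus_out_two {m : ℕ} (hm : 5 ≤ m) :
    ¬ 3 ∣ Nat.card (Cfsg.Out (Cfsg.POmega (ZMod 2) (Cfsg.quadFormPlus m (ZMod 2)))) := by
  haveI : Fact (Nat.Prime 2) := ⟨Nat.prime_two⟩
  have h := Cfsg.Agent.S2607.result (F := ZMod 2) (f := 1) (m := m) le_rfl (by rw [ZMod.card, pow_one]) (by omega)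
  rw [if_neg (by omega)] at h
  obtain ⟨e⟩ := h
  rw [Nat.card_congr e.toEquiv, card_mult_prod]
  norm_num

theorem plus_out_three {m : ℕ} (hm : 5 ≤ m) :
    ¬ 3 ∣ Nat.card (Cfsg.Out (Cfsg.POmega (ZMod 3) (Cfsg.quadFormPlus m (ZMod 3)))) := by
  haveI : Fact (Nat.Prime 3) := ⟨Nat.prime_three⟩
  have h := Cfsg.Agent.S2608.result (F := ZMod 3) (p := 3) (f := 1) (m := m) le_rfl (by rw [ZMod.card, pow_one])
    (by norm_num) (by omega)
  rw [if_neg (by omega)] at h
  split_ifs at h <;> obtain ⟨e⟩ := h <;> rw [Nat.card_congr e.toEquiv]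
  · rw [Nat.card_congr Multiplicative.toAdd, Nat.card_prod, Nat.card_prod, Nat.card_zmod, Nat.card_zmod]
    norm_num
  · rw [Nat.card_prod, DihedralGroup.nat_card, Nat.card_congr Multiplicative.toAdd, Nat.card_zmod]
    norm_num

theorem minus_out {p : ℕ} [Fact p.Prime] (hp : p = 2 ∨ p = 3) {m : ℕ} (hm : 4 ≤ m) (a b : ZMod p)
    (hab : ∀ z₁ z₂ : ZMod p, z₁ ^ 2 + a * z₁ * z₂ + b * z₂ ^ 2 = 0 → z₁ = 0 ∧ z₂ = 0) :
    ¬ 3 ∣ Nat.card (Cfsg.Out (Cfsg.POmega (ZMod p) (Cfsg.quadFormMinus (m - 1) (ZMod p) a b))) := by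
  rcases hp with rfl | rfl
  · rw [(Cfsg.Agent.S2605.result (F := ZMod 2) (f := 1) le_rfl (by rw [ZMod.card, pow_one]) hm a b hab).2]
    norm_num
  · have h := Cfsg.Agent.S2606.result (F := ZMod 3) (p := 3) (f := 1) (m := m) le_rfl (by rw [ZMod.card, pow_one])
      (by norm_num) hm a b hab
    split_ifs at h <;> obtain ⟨e⟩ := h <;> rw [Nat.card_congr e.toEquiv]
    · rw [Nat.card_prod, DihedralGroup.nat_card, Nat.card_congr Multiplicative.toAdd, Nat.card_zmod]
      norm_num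
    · rw [card_mult_prod]
      norm_num

end Cfsg.Lib.Fischer.Disc
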