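import Cfsg.Agent.S5360
import Cfsg.Agent.ThreeTransposition.PairNormaliser.ReflCenter
import Cfsg.Agent.Classical.Misc.Spinor
import Cfsg.Agent.Classical.OrthSylowTwo.Transport
import Cfsg.Agent.Known.OrthField.Classify
import Cfsg.Agent.Fischer.Disc.OutOrder

/-!
The derived groups of the projective reflection groups over three elements are the groups PΩ.
-/

set_option autoImplicit false
set_option linter.unusedSectionVars false
set_option linter.style.haveILetI false

namespace Cfsg.Lib.Fischer.Disc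

open Cfsg Subgroup
open Cfsg.Lib.Classical

universe u v w

/-- A group over a simple one with central kernel. -/
theorem quot_center_iso {A : Type u} [Group A] {L : Type v} [Group L] (π : A →* L) (hs : Function.Surjective π)
    (hL : center L = ⊥) (hk : π.ker ≤ center A) : Nonempty (L ≃* A ⧸ center A) := by
  have he : π.ker = center A := by
    refine le_antisymm hk fun z hz => MonoidHom.mem_ker.2 ?_
    have : π z ∈ center L := mem_center_iff.2 fun y => by
      obtain ⟨x, rfl⟩ := hs y
      rw [← map_mul, ← map_mul, mem_center_iff.1 hz x]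
    rwa [hL, mem_bot] at this
  exact ⟨(QuotientGroup.quotientKerEquivOfSurjective π hs).symm.trans (QuotientGroup.quotientMulEquivOfEq he)⟩

theorem quot_center_of_iso {A : Type u} [Group A] {L : Type v} [Group L] (e : L ≃* A) (hL : center L = ⊥) :
    Nonempty (L ≃* A ⧸ center A) :=
  quot_center_iso e.symm.toMonoidHom e.symm.surjective hL (by
    rw [(MonoidHom.ker_eq_bot_iff _).2 e.symm.injective]; exact bot_le)

theorem pomega_congr {F : Type u} [Field F] {ι κ : Type} [Fintype ι] [DecidableEq ι] [Fintype κ] [DecidableEq κ]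
    {Q : (ι → F) → F} {Q' : (κ → F) → F} (e : isometryGroup F Q ≃* isometryGroup F Q') :
    Nonempty (POmega F Q ≃* POmega F Q') := by
  obtain ⟨d⟩ := Cfsg.Lib.OrthSylowTwo.omega_equiv e
  exact ⟨QuotientGroup.congr _ _ d (by
    ext y
    constructor
    · rintro ⟨x, hx, rfl⟩
      exact mem_center_iff.2 fun g => by
        obtain ⟨g, rfl⟩ := d.surjective g
        show d g * d x = d x * d g
        rw [← map_mul, ← map_mul, mem_center_iff.1 hx g]
    · intro hy
      refine ⟨d.symm y, mem_center_iff.2 fun g => d.injective ?_, d.apply_symm_apply y⟩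
      rw [map_mul, map_mul, d.apply_symm_apply, mem_center_iff.1 hy (d g)])⟩

variable {n : ℕ} {Q : QuadraticForm (ZMod 3) (Fin n → ZMod 3)}

/-- The derived group of the reflection group is Ω. -/
theorem refl_commutator (hQ : (QuadraticMap.polarBilin Q).Nondegenerate) (hn : 5 ≤ n) :
    (commutator ↥(reflectionSubgroup (⇑Q) (1 : ZMod 3))).map (reflectionSubgroup (⇑Q) (1 : ZMod 3)).subtype =
      Cfsg.Omega (ZMod 3) (⇑Q) := by
  have hR := Cfsg.Lib.ThreeTr.index_reflectionSubgroup Q (c := 1) hQ hn one_ne_zero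
  have h2 := (Cfsg.Agent.S5360.result n hn Q hQ 1 one_ne_zero).2.1
  have hO := Refl.index_omega_odd Q (by decide : (2 : ZMod 3) ≠ 0) hQ (by rw [Fintype.card_fin]; omega)
  set R := reflectionSubgroup (⇑Q) (1 : ZMod 3)
  have hle : (commutator ↥R).map R.subtype ≤ Cfsg.Omega (ZMod 3) (⇑Q) := by
    rw [_root_.commutator_def, map_commutator]
    exact commutator_mono le_top le_top
  have hidx : ((commutator ↥R).map R.subtype).index ≤ 4 := by
    rw [index_map_subtype, hR]
    omega
  refine le_antisymm hle (relIndex_eq_one.1 ?_)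
  have h1 := relIndex_mul_index hle
  rw [hO] at h1
  have h0 : ((commutator ↥R).map R.subtype).index ≠ 0 := index_ne_zero_of_finite
  rcases Nat.eq_zero_or_pos (((commutator ↥R).map R.subtype).relIndex (Cfsg.Omega (ZMod 3) (⇑Q))) with hz | hz
  · rw [hz, zero_mul] at h1
    exact absurd h1.symm h0
  · nlinarith

/-- The derived group modulo the centre. -/
theorem refl_layer (hQ : (QuadraticMap.polarBilin Q).Nondegenerate) (hn : 5 ≤ n) {L : Type w} [Group L]
    (hL : center L = ⊥)
    (e : L ≃* ↥(commutator (↥(reflectionSubgroup (⇑Q) (1 : ZMod 3)) ⧸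
      center ↥(reflectionSubgroup (⇑Q) (1 : ZMod 3))))) :
    Nonempty (L ≃* Cfsg.POmega (ZMod 3) (⇑Q)) := by
  set R := reflectionSubgroup (⇑Q) (1 : ZMod 3)
  let q := QuotientGroup.mk' (center ↥R)
  have hmap : (commutator ↥R).map q = commutator (↥R ⧸ center ↥R) := by
    rw [_root_.commutator_def, map_commutator, map_top_of_surjective _ (QuotientGroup.mk'_surjective _),
      _root_.commutator_def]
  let t : ↥(commutator ↥R) ≃* Cfsg.Omega (ZMod 3) (⇑Q) :=
    ((commutator ↥R).equivMapOfInjective _ R.subtype_injective).trans (MulEquiv.subgroupCongr (refl_commutator hQ hn))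
  let π : Cfsg.Omega (ZMod 3) (⇑Q) →* L := e.symm.toMonoidHom.comp (((MulEquiv.subgroupCongr hmap).toMonoidHom.comp
    (q.subgroupMap (commutator ↥R))).comp t.symm.toMonoidHom)
  have hπ : Function.Surjective π := e.symm.surjective.comp (((MulEquiv.subgroupCongr hmap).surjective.comp
    (q.subgroupMap_surjective _)).comp t.symm.surjective)
  refine quot_center_iso π hπ hL (fun x hx => ?_)
  have h1 : q ((t.symm x : ↥(commutator ↥R)) : ↥R) = 1 := by
    have h2 : e.symm ((MulEquiv.subgroupCongr hmap) (q.subgroupMap (commutator ↥R) (t.symm x))) = 1 := hx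
    rw [MulEquiv.map_eq_one_iff, MulEquiv.map_eq_one_iff] at h2
    exact congrArg Subtype.val h2
  rw [QuotientGroup.mk'_apply, QuotientGroup.eq_one_iff] at h1
  refine mem_center_iff.2 fun g => t.symm.injective (Subtype.ext ?_)
  rw [map_mul, map_mul, Subgroup.coe_mul, Subgroup.coe_mul]
  exact mem_center_iff.1 h1 _

/-- Over three elements the orders of the outer groups are prime to three, dimension eight of plus type aside. -/
theorem refl_cases (hQ : (QuadraticMap.polarBilin Q).Nondegenerate) (hn : 6 ≤ n) {L : Type w} [Group L]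
    (e : L ≃* Cfsg.POmega (ZMod 3) (⇑Q)) :
    ¬ 3 ∣ Nat.card (Cfsg.Out L) ∨ Nonempty (L ≃* Cfsg.POmega (ZMod 3) (Cfsg.quadFormPlus 4 (ZMod 3))) := by
  classical
  have hζ : ∀ t : ZMod 3, t ^ 2 + t + 2 ≠ 0 := by decide
  rcases Nat.even_or_odd' n with ⟨m, rfl | rfl⟩
  · rcases Cfsg.Lib.OrthField.even_cases hQ (m := m) (by rw [Module.finrank_fin_fun]) with ⟨g, hg⟩ | ⟨k, hk, hg⟩
    · have hg' : ∀ x, Q (g.symm x) = HypQuad.plusForm m (ZMod 3) x := fun x => by
        rw [hg, g.apply_symm_apply, HypQuad.plusForm_apply]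
      obtain ⟨i⟩ := Cfsg.Lib.OrthSylowTwo.exists_equiv Q (HypQuad.plusForm m (ZMod 3)) g.symm hg'
      rw [show (⇑(HypQuad.plusForm m (ZMod 3))) = Cfsg.quadFormPlus m (ZMod 3) from
        funext (HypQuad.plusForm_apply m)] at i
      obtain ⟨d⟩ := pomega_congr i.symm
      rcases (show m = 3 ∨ m = 4 ∨ 5 ≤ m by omega) with rfl | rfl | h5
      · exact Or.inl (not_three_of_equiv (e.trans d) (plus_three_out (Or.inr rfl)))
      · exact Or.inr ⟨e.trans d⟩
      · exact Or.inl (not_three_of_equiv (e.trans d) (plus_out_three h5))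
    · obtain ⟨g, hg⟩ := hg 2 hζ
      subst hk
      have hg' : ∀ x, Q (g.symm x) = Refl.minusForm k (ZMod 3) 1 2 x := fun x => by
        rw [hg, g.apply_symm_apply, Refl.minusForm_coe]
      obtain ⟨i⟩ := Cfsg.Lib.OrthSylowTwo.exists_equiv Q (Refl.minusForm k (ZMod 3) 1 2) g.symm hg'
      rw [Refl.minusForm_coe] at i
      obtain ⟨d⟩ := pomega_congr i.symm
      refine Or.inl (not_three_of_equiv (e.trans d) ?_)
      rcases (show k = 2 ∨ 4 ≤ k + 1 by omega) with rfl | h4
      · exact minus_two_out (Or.inr rfl) 1 2 (Cfsg.Lib.OrthField.aniso_zeta hζ)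
      · exact minus_out (Or.inr rfl) h4 1 2 (Cfsg.Lib.OrthField.aniso_zeta hζ)
  · obtain ⟨c, hc, g, hg⟩ := Cfsg.Lib.OrthField.odd_case hQ (m := m) (by rw [Module.finrank_fin_fun])
    obtain ⟨i⟩ := Cfsg.Lib.OrthSylowTwo.exists_equiv Q (c • Refl.oddForm m (ZMod 3)) g.symm fun x => by
      rw [hg, g.apply_symm_apply, ← Refl.oddForm_coe]
      rfl
    have hiso : Cfsg.isometryGroup (ZMod 3) (Cfsg.quadFormOdd m (ZMod 3)) =
        Cfsg.isometryGroup (ZMod 3) (⇑(c • Refl.oddForm m (ZMod 3))) := by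
      rw [← Refl.oddForm_coe]
      ext u
      rw [Refl.mem_iff, Refl.mem_iff]
      exact forall_congr' fun x => (mul_right_inj' hc).symm
    obtain ⟨d⟩ := pomega_congr ((MulEquiv.subgroupCongr hiso).trans i).symm
    exact Or.inl (not_three_of_equiv (e.trans d) (odd_out (by omega)))

/-- The same over two elements. -/
theorem orth_cases {L : Type w} [Group L] (hL : center L = ⊥) :
    (∀ m, 3 ≤ m → (L ≃* Cfsg.Omega (ZMod 2) (Cfsg.quadFormPlus m (ZMod 2))) →
      ¬ 3 ∣ Nat.card (Cfsg.Out L) ∨ Nonempty (L ≃* Cfsg.Omega (ZMod 2) (Cfsg.quadFormPlus 4 (ZMod 2)))) ∧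
    (∀ m, 2 ≤ m → (L ≃* Cfsg.Omega (ZMod 2) (Cfsg.quadFormMinus m (ZMod 2) 1 1)) → ¬ 3 ∣ Nat.card (Cfsg.Out L)) := by
  refine ⟨fun m hm e => ?_, fun m hm e => ?_⟩
  · obtain ⟨d⟩ := quot_center_of_iso e hL
    rcases (show m = 3 ∨ m = 4 ∨ 5 ≤ m by omega) with rfl | rfl | h5
    · exact Or.inl (not_three_of_equiv d (plus_three_out (Or.inl rfl)))
    · exact Or.inr ⟨e⟩
    · exact Or.inl (not_three_of_equiv d (plus_out_two h5))
  · obtain ⟨d⟩ := quot_center_of_iso e hL
    have hab := Cfsg.Lib.OrthField.aniso_zeta (ζ := (1 : ZMod 2)) (by decide)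
    refine not_three_of_equiv d ?_
    rcases (show m = 2 ∨ 4 ≤ m + 1 by omega) with rfl | h4
    · exact minus_two_out (Or.inl rfl) 1 1 hab
    · exact minus_out (Or.inl rfl) h4 1 1 hab

end Cfsg.Lib.Fischer.Disc
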