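import Cfsg.Agent.ThreeTransposition.Primitive
import Cfsg.Agent.Fischer.Iface
import Cfsg.Prelude.Def_KGroupFacts

/-!
A class of 3-transpositions without centre and without cores whose commuting graph is disconnected: the layer is
simple, the quotient by it embeds in the outer automorphisms, and the members in one coset give a primitive class.
-/

set_option autoImplicit false
set_option linter.unusedSectionVars false

namespace Cfsg.Lib.Fischer.Disc

open Cfsg Subgroup Cfsg.Lib.ThreeTr
open scoped commutatorElement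

universe u

variable {G : Type u} [Group G] [Finite G] {D : Set G}

/-- The standing hypotheses. -/
structure Split (D : Set G) : Prop where
  ss : Semisimple D
  cen : center G = ⊥
  disc : ¬ (commutingGraph D).Connected

theorem Split.mk' (hD : IsThreeTranspositionClass D) (hZ : center G = ⊥) (h2 : pCore 2 G = ⊥) (h3 : pCore 3 G = ⊥)
    (hdisc : ¬ (commutingGraph D).Connected) : Split D := by
  refine ⟨⟨hD, ?_, h2 ▸ bot_le, h3 ▸ bot_le⟩, hZ, hdisc⟩
  by_contra! hone
  refine hdisc ((linked_iff_connected hD).2 fun a ha b hb => ?_)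
  rw [hone a ha b hb]
  exact Relation.ReflTransGen.refl

variable (h : Split D)
include h

theorem Split.centralizer_layer : centralizer (layer G : Set G) = ⊥ :=
  eq_bot_iff.2 (h.ss.centralizer_le_center.trans h.cen.le)

theorem Split.genFitting : generalizedFittingSubgroup G = layer G := by
  rw [h.ss.genFitting_eq, h.cen, sup_bot_eq]

theorem Split.center_layer : center ↥(layer G) = ⊥ := by
  rw [eq_bot_iff]
  intro z hz
  refine mem_bot.2 (Subtype.ext ?_)
  have : (z : G) ∈ centralizer (layer G : Set G) := mem_centralizer_iff.2 fun y hy =>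
    congrArg Subtype.val (mem_center_iff.1 hz ⟨y, hy⟩)
  rwa [h.centralizer_layer, mem_bot] at this

theorem Split.simple_layer : IsSimpleGroup ↥(layer G) :=
  isSimpleGroup_of_quotient_bot h.center_layer h.ss.layer_comp.2.2

theorem Split.not_comm : ¬ IsMulCommutative (layer G) :=
  Cfsg.Lib.Components.comp_not_isMulCommutative h.ss.layer_comp

theorem Split.exists_outside : ∃ a ∈ D, ∃ b ∈ D, a⁻¹ * b ∉ layer G := by
  by_contra! hall
  have hi := index_le_two_of_products h.ss.cls hall
  have hP := h.ss.primitive hi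
  have hw := exists_commuting_pair h.ss.cls h.ss.two h.ss.h3
  exact h.disc ((linked_iff_connected h.ss.cls).2 fun a ha b hb => linked_of_primitive hP h.ss.cls hw ha hb)

theorem Split.not_mem_layer {a : G} (ha : a ∈ D) : a ∉ layer G := by
  intro hal
  obtain ⟨x, hx, y, hy, hxy⟩ := h.exists_outside
  have hle : ∀ z ∈ D, z ∈ layer G := fun z hz => by
    obtain ⟨k, rfl⟩ := ThreeTr.exists_conj h.ss.cls ha hz
    exact (inferInstance : (layer G).Normal).conj_mem a hal k
  exact hxy (mul_mem (inv_mem (hle x hx)) (hle y hy))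

theorem Split.not_commute {a b : G} (ha : a ∈ D) (hb : b ∈ D) (hab : a⁻¹ * b ∉ layer G) : ¬ Commute a b := by
  intro c
  refine hab (h.ss.width ha hb ?_)
  rw [c.eq, mul_inv_cancel_right, mul_inv_cancel]
  exact one_mem _

/-- Conjugation on the layer, modulo the inner automorphisms. -/
def toOut (G : Type u) [Group G] : G →* Out ↥(layer G) :=
  (QuotientGroup.mk' (Inn ↥(layer G))).comp MulAut.conjNormal

theorem Split.ker_toOut : (toOut G).ker = layer G := by
  ext g
  rw [MonoidHom.mem_ker, toOut, MonoidHom.comp_apply, QuotientGroup.mk'_apply, QuotientGroup.eq_one_iff]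
  constructor
  · rintro ⟨l, hl⟩
    have hc : (l : G)⁻¹ * g ∈ centralizer (layer G : Set G) := mem_centralizer_iff.2 fun y hy => by
      have e : (l : G) * y * (l : G)⁻¹ = g * y * g⁻¹ := by
        have := congrArg (fun φ : MulAut ↥(layer G) => ((φ ⟨y, hy⟩ : ↥(layer G)) : G)) hl
        simpa [MulAut.conj_apply, MulAut.conjNormal_apply] using this
      calc y * ((l : G)⁻¹ * g) = (l : G)⁻¹ * ((l : G) * y * (l : G)⁻¹) * g := by group
        _ = (l : G)⁻¹ * g * y := by rw [e]; group
    rw [h.centralizer_layer, mem_bot, inv_mul_eq_one] at hc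
    exact hc ▸ l.2
  · intro hg
    exact ⟨⟨g, hg⟩, MulEquiv.ext fun x => Subtype.ext (by simp [MulAut.conjNormal_apply])⟩

/-- The quotient by the layer inside the outer automorphisms. -/
theorem Split.exists_embedding : ∃ ψ : G ⧸ layer G →* Out ↥(layer G), Function.Injective ψ :=
  ⟨QuotientGroup.lift (layer G) (toOut G) h.ker_toOut.ge, by
    rw [← MonoidHom.ker_eq_bot_iff, QuotientGroup.ker_lift, h.ker_toOut, QuotientGroup.map_mk'_self]⟩

theorem Split.three_dvd : 3 ∣ Nat.card (Out ↥(layer G)) := by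
  obtain ⟨a, ha, b, hb, hab⟩ := h.exists_outside
  obtain ⟨ψ, hψ⟩ := h.exists_embedding
  refine dvd_trans ?_ (Subgroup.card_dvd_of_injective ψ hψ)
  have h3 : ((a * b : G) : G ⧸ layer G) ^ 3 = 1 := by
    rw [← QuotientGroup.mk_pow, cube_of_not_commute h.ss.cls.1 ha hb (h.not_commute ha hb hab), QuotientGroup.mk_one]
  have h1 : ((a * b : G) : G ⧸ layer G) ≠ 1 := by
    rw [Ne, QuotientGroup.eq_one_iff, ← inv_eq h.ss.cls.1 ha]
    exact hab
  haveI : Fact (Nat.Prime 3) := ⟨Nat.prime_three⟩
  rw [← orderOf_eq_prime h3 h1]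
  exact orderOf_dvd_natCard _

omit h

/-- A pair of members of different cosets, and the subgroup of one coset, as a primitive class. -/
structure Half (D : Set G) (a : G) (H : Subgroup G) (E : Set ↥H) : Prop where
  rich : Rich E
  cen : center ↥H = ⊥
  layer_le : layer G ≤ H
  der : commutator ↥H = (layer G).subgroupOf H
  proper : commutator ↥H ≠ ⊤
  outside : ∀ x ∈ E, x ∉ commutator ↥H
  index : (commutator ↥H).index = 2
  sub : ∀ x ∈ E, (x : G) ∈ D
  mem : ∃ x ∈ E, (x : G) = a

include h

theorem Split.exists_half {a : G} (ha : a ∈ D) : ∃ (H : Subgroup G) (E : Set ↥H), Half D a H E := by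
  have hcls := h.ss.cls
  set L := layer G with hL
  haveI hLn : L.Normal := inferInstance
  haveI hLs := h.simple_layer
  have haL := h.not_mem_layer ha
  let H := L ⊔ zpowers a
  have hLH : L ≤ H := le_sup_left
  have haH : a ∈ H := le_sup_right (a := L) (mem_zpowers a)
  let a' : ↥H := ⟨a, haH⟩
  let M := L.subgroupOf H
  haveI : M.Normal := inferInstance
  have haM : a' ∉ M := fun hm => haL hm
  have hsplit : ∀ x : ↥H, x ∈ M ∨ a'⁻¹ * x ∈ M := by
    intro x
    have hle : H ≤ (zpowers (a : G ⧸ L)).comap (QuotientGroup.mk' L) := sup_le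
      (fun l hl => by
        rw [mem_comap, QuotientGroup.mk'_apply, (QuotientGroup.eq_one_iff l).2 hl]
        exact one_mem _)
      (zpowers_le.2 (mem_zpowers _))
    obtain ⟨k, hk⟩ : ((x : G) : G ⧸ L) ∈ zpowers (a : G ⧸ L) := hle x.2
    have ha2 : (a : G ⧸ L) * a = 1 := by
      rw [← QuotientGroup.mk_mul, sq_eq_one hcls.1 ha, QuotientGroup.mk_one]
    rcases Int.even_or_odd' k with ⟨m, rfl | rfl⟩
    · left
      have : ((x : G) : G ⧸ L) = 1 := by
        rw [← hk]; show (a : G ⧸ L) ^ (2 * m) = 1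
        rw [zpow_mul, show (a : G ⧸ L) ^ (2 : ℤ) = 1 by rw [zpow_two, ha2], one_zpow]
      exact mem_subgroupOf.2 ((QuotientGroup.eq_one_iff _).1 this)
    · right
      have : ((x : G) : G ⧸ L) = a := by
        rw [← hk]; show (a : G ⧸ L) ^ (2 * m + 1) = a
        rw [zpow_add, zpow_one, zpow_mul, show (a : G ⧸ L) ^ (2 : ℤ) = 1 by rw [zpow_two, ha2], one_zpow, one_mul]
      have hm : (a : G)⁻¹ * (x : G) ∈ L := QuotientGroup.eq.1 this.symm
      exact mem_subgroupOf.2 hm
  have hidx : M.index = 2 := by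
    rw [Subgroup.index_eq_two_iff]
    refine ⟨a', fun x => ?_⟩
    rcases hsplit x with hx | hx
    · exact Or.inr ⟨hx, fun hh => haM ((mul_mem_cancel_left hx).1 hh)⟩
    · refine Or.inl ⟨?_, fun hh => haM ?_⟩
      · have := (inferInstance : M.Normal).mem_comm hx
        rwa [show a'⁻¹ = a' from Subtype.ext (inv_eq hcls.1 ha)] at this
      · simpa using mul_mem hh (inv_mem hx)
  let E : Set ↥H := {x | IsConj a' x}
  have hsub : ∀ x ∈ E, (x : G) ∈ D := fun x hx => by
    obtain ⟨g, rfl⟩ := isConj_iff.1 hx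
    exact ThreeTr.conj_mem hcls (g : G) ha
  have hMs : IsSimpleGroup ↥M := (Subgroup.subgroupOfEquivOfLe hLH).isSimpleGroup
  have hMp : ⁅M, M⁆ = M := by
    have e := Cfsg.Lib.Components.layer_perfect (G := G)
    refine map_injective H.subtype_injective ?_
    rw [map_commutator]
    show ⁅(L.subgroupOf H).map H.subtype, (L.subgroupOf H).map H.subtype⁆ = (L.subgroupOf H).map H.subtype
    rw [map_subgroupOf_eq_of_le hLH]
    exact e
  have hgen : closure E = ⊤ := by
    set N := closure E
    haveI : N.Normal := by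
      refine ⟨fun x hx g => ?_⟩
      induction hx using closure_induction with
      | mem y hy => exact subset_closure (hy.trans (isConj_iff.2 ⟨g, rfl⟩) : IsConj a' _)
      | one => simp
      | mul p q _ _ hp hq => rw [show g * (p * q) * g⁻¹ = g * p * g⁻¹ * (g * q * g⁻¹) by group]; exact mul_mem hp hq
      | inv p _ hp => rw [show g * p⁻¹ * g⁻¹ = (g * p * g⁻¹)⁻¹ by group]; exact inv_mem hp
    have haN : a' ∈ N := subset_closure (IsConj.refl a')
    haveI := hMs
    rcases IsSimpleGroup.eq_bot_or_eq_top_of_normal (N.subgroupOf M) inferInstance with hbot | htop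
    · exfalso
      refine comp_not_centralized hcls ha h.ss.layer_comp fun l hl => mem_centralizer_singleton_iff.2 ?_
      let l' : ↥H := ⟨l, hLH hl⟩
      have h1 : l' * a' * l'⁻¹ * a'⁻¹ ∈ N := mul_mem ((inferInstance : N.Normal).conj_mem _ haN l') (inv_mem haN)
      have h2 : l' * a' * l'⁻¹ * a'⁻¹ ∈ M := by
        rw [show l' * a' * l'⁻¹ * a'⁻¹ = l' * (a' * l'⁻¹ * a'⁻¹) by group]
        exact mul_mem hl ((inferInstance : M.Normal).conj_mem _ (inv_mem hl) a')
      have h5 : (⟨_, h2⟩ : ↥M) ∈ (⊥ : Subgroup ↥M) := hbot ▸ mem_subgroupOf.2 h1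
      have h3 : l' * a' * l'⁻¹ * a'⁻¹ = 1 := congrArg Subtype.val (mem_bot.1 h5)
      have h4 := congrArg Subtype.val h3
      change l * a * l⁻¹ * a⁻¹ = 1 at h4
      calc l * a = l * a * l⁻¹ * a⁻¹ * (a * l) := by group
        _ = a * l := by rw [h4, one_mul]
    · rw [eq_top_iff]
      intro x _
      rcases hsplit x with hx | hx
      · exact subgroupOf_eq_top.1 htop hx
      · simpa using mul_mem haN (subgroupOf_eq_top.1 htop hx)
  have hE : IsThreeTranspositionClass E := by
    refine ⟨⟨fun x hx => ?_, fun x hx y hy => ?_⟩, ⟨a', IsConj.refl a', ?_⟩, hgen⟩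
    · rw [← Subgroup.orderOf_coe]; exact hcls.1.1 _ (hsub x hx)
    · rcases hcls.1.2 _ (hsub x hx) _ (hsub y hy) with h' | h'
      · exact Or.inl (Subtype.ext h')
      · exact Or.inr (Subtype.ext h')
    · ext x
      rfl
  have hcen : center ↥H = ⊥ := by
    rw [eq_bot_iff]
    intro z hz
    refine mem_bot.2 (Subtype.ext ?_)
    have : (z : G) ∈ centralizer (L : Set G) := mem_centralizer_iff.2 fun y hy =>
      congrArg Subtype.val (mem_center_iff.1 hz ⟨y, hLH hy⟩)
    rwa [h.centralizer_layer, mem_bot] at this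
  have hder : commutator ↥H = M := commutator_eq_of_index_le_two hE hMp hidx.le
  have hpc : ∀ p : ℕ, p.Prime → pCore p ↥H ≤ center ↥H := by
    intro p hp
    haveI := Fact.mk hp
    refine (core_le_center_or_commutator_le (hder ▸ hMs) p).resolve_right fun hle => ?_
    rw [hder] at hle
    have hpg : IsPGroup p ↥M := (Cfsg.Lib.Components.isPGroup_pCore p).to_le hle
    refine h.not_comm ?_
    haveI := hMs
    haveI : Nontrivial ↥M := hMs.toNontrivial
    have hz : center ↥M = ⊤ := (IsSimpleGroup.eq_bot_or_eq_top_of_normal _ inferInstance).resolve_left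
      fun hb => (nontrivial_iff_ne_bot _).1 hpg.center_nontrivial hb
    refine ⟨⟨fun x y => Subtype.ext ?_⟩⟩
    exact congrArg (fun w : ↥M => ((w : ↥H) : G))
      (mem_center_iff.1 (hz ▸ mem_top (⟨⟨(y : G), hLH y.2⟩, y.2⟩ : ↥M)) ⟨⟨(x : G), hLH x.2⟩, x.2⟩)
  have htwo : ∃ x ∈ E, ∃ y ∈ E, x ≠ y := by
    by_contra! hone
    have hall : ∀ g : ↥H, g * a' * g⁻¹ = a' := fun g =>
      hone _ (isConj_iff.2 ⟨g, rfl⟩) _ (IsConj.refl a')
    have : a' ∈ center ↥H := mem_center_iff.2 fun g => mul_inv_eq_iff_eq_mul.1 (hall g)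
    rw [hcen, mem_bot] at this
    exact haM (this ▸ one_mem M)
  have hS : Semisimple E := ⟨hE, htwo, hpc 2 Nat.prime_two, hpc 3 Nat.prime_three⟩
  refine ⟨H, E, ⟨⟨hE, hS.primitive (index_le_two_of_simple_commutator hS (hder ▸ hMs)),
    exists_commuting_pair hE htwo hS.h3⟩, hcen, hLH, hder, ?_, ?_, hder ▸ hidx, hsub, ⟨a', IsConj.refl a', rfl⟩⟩⟩
  · rw [hder]
    exact fun ht => haM (ht ▸ mem_top a')
  · intro x hx
    rw [hder]
    obtain ⟨g, rfl⟩ := isConj_iff.1 hx
    exact fun hm => haM (by simpa [mul_assoc] using (inferInstance : M.Normal).conj_mem _ hm g⁻¹)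

end Cfsg.Lib.Fischer.Disc
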