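import Cfsg.Agent.Fischer.Models.Rows
import Cfsg.Agent.Fischer.Disc.Setup
import Cfsg.Agent.Fischer.Disc.Forms
import Cfsg.Agent.ThreeTransposition.M24Aut.MemberMap
import Cfsg.Agent.ThreeTransposition.M23Count.M23
import Cfsg.Agent.S0247
import Cfsg.Agent.S0269
import Cfsg.Agent.S0283

/-!
The layer of a class with disconnected commuting graph.
-/

set_option autoImplicit false
set_option linter.unusedSectionVars false
set_option linter.style.haveILetI false

namespace Cfsg.Lib.Fischer.Disc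

open Cfsg Subgroup Cfsg.Lib.ThreeTr
open Cfsg.Lib.PrimeGraph (KQuad)

universe u v

theorem commutator_equiv {A : Type u} [Group A] {B : Type v} [Group B] (e : A ≃* B) :
    Nonempty (commutator A ≃* commutator B) :=
  Cfsg.Lib.OrthSylowTwo.omega_equiv e

theorem card_sp_one : Nat.card (Matrix.symplecticGroup (Fin 1) (ZMod 2)) = 6 := by
  rw [show Nat.card (Matrix.symplecticGroup (Fin 1) (ZMod 2)) =
    Nat.card {A : Matrix (Fin 1 ⊕ Fin 1) (Fin 1 ⊕ Fin 1) (ZMod 2) //
      A * Matrix.J (Fin 1) (ZMod 2) * A.transpose = Matrix.J (Fin 1) (ZMod 2)} from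
    Nat.card_congr (Equiv.subtypeEquivRight fun A => SymplecticGroup.mem_iff), Nat.card_eq_fintype_card]
  decide +kernel

variable {G : Type u} [Group G] [Finite G] {D : Set G}

theorem Half.not_perfect {a : G} {H : Subgroup G} {E : Set ↥H} (hh : Half D a H E)
    (h : commutator ↥H = ⊤) : False := hh.proper h

/-- The neighbourhood structure of type M(24) is not compatible with a second coset. -/
theorem Split.not_m24 (h : Split D) {a : G} (ha : a ∈ D) {H : Subgroup G} {E : Set ↥H} (hh : Half D a H E)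
    (hS : Setting E) (hM : Cfsg.Lib.ThreeTr.M24 E) : False := by
  classical
  set L := layer G with hL
  haveI : L.Normal := inferInstance
  obtain ⟨χ, hχ⟩ := hM.exists_sign
  have hker : χ.ker = commutator ↥H := by
    refine le_antisymm (fun x hx => ?_) (Abelianization.commutator_subset_ker χ)
    by_contra hxc
    obtain ⟨a', ha', -⟩ := hh.mem
    have := Abelianization.commutator_subset_ker χ
      ((mul_mem_iff_of_index_two hh.index).2 (iff_of_false (hh.outside a' ha') hxc))
    rw [MonoidHom.mem_ker, map_mul, MonoidHom.mem_ker.1 hx, mul_one, hχ a' ha'] at this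
    exact absurd this (by decide)
  have hmem : ∀ x : ↥H, x ∈ χ.ker ↔ (x : G) ∈ L := fun x => by rw [hker, hh.der]; exact mem_subgroupOf
  obtain ⟨a', ha', haa⟩ := hh.mem
  obtain ⟨x, hx, hxa⟩ : ∃ x ∈ D, a⁻¹ * x ∉ L := by
    by_contra! hall
    obtain ⟨p, hp, q, hq, hpq⟩ := h.exists_outside
    exact hpq (by
      have := mul_mem (inv_mem (hall p hp)) (hall q hq)
      rwa [show (a⁻¹ * p)⁻¹ * (a⁻¹ * q) = p⁻¹ * q by group] at this)
  obtain ⟨g, hg⟩ := ThreeTr.exists_conj h.ss.cls ha hx
  have hin : ∀ k : G, ∀ y : ↥χ.ker, k * ((y : ↥H) : G) * k⁻¹ ∈ L := fun k y =>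
    (inferInstance : L.Normal).conj_mem _ ((hmem _).1 y.2) k
  let φ : ↥χ.ker ≃* ↥χ.ker :=
    { toFun := fun y => ⟨⟨g⁻¹ * ((y : ↥H) : G) * g, hh.layer_le (by simpa using hin g⁻¹ y)⟩,
        (hmem _).2 (by simpa using hin g⁻¹ y)⟩
      invFun := fun y => ⟨⟨g * ((y : ↥H) : G) * g⁻¹, hh.layer_le (hin g y)⟩, (hmem _).2 (hin g y)⟩
      left_inv := fun y => Subtype.ext (Subtype.ext (by
        show g * (g⁻¹ * ((y : ↥H) : G) * g) * g⁻¹ = _
        group))
      right_inv := fun y => Subtype.ext (Subtype.ext (by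
        show g⁻¹ * (g * ((y : ↥H) : G) * g⁻¹) * g = _
        group))
      map_mul' := fun y z => Subtype.ext (Subtype.ext (by
        show g⁻¹ * (((y : ↥H) : G) * ((z : ↥H) : G)) * g =
          g⁻¹ * ((y : ↥H) : G) * g * (g⁻¹ * ((z : ↥H) : G) * g)
        group)) }
  obtain ⟨ψ, hψ, hψc⟩ := M24Aut.exists_member_map hM χ hχ φ
  set c := g * ((ψ a' : ↥H) : G) * g⁻¹ with hc
  have hcD : c ∈ D := ThreeTr.conj_mem h.ss.cls g (hh.sub _ (hψ a' ha'))
  have hca : a⁻¹ * c ∉ L := by
    intro hmem'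
    have h1 : a⁻¹ * ((ψ a' : ↥H) : G) ∈ L := by
      have h2 := (mul_mem_iff_of_index_two hh.index).2
        (iff_of_false (fun hm => hh.outside a' ha' (inv_mem_iff.1 hm) : a'⁻¹ ∉ commutator ↥H)
          (hh.outside _ (hψ a' ha')))
      rw [hh.der, mem_subgroupOf, Subgroup.coe_mul, Subgroup.coe_inv, haa] at h2
      exact h2
    have h3 := (inferInstance : L.Normal).conj_mem _ h1 g
    rw [show g * (a⁻¹ * ((ψ a' : ↥H) : G)) * g⁻¹ = (g * a * g⁻¹)⁻¹ * c by rw [hc]; group, hg] at h3
    refine hxa ?_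
    have := mul_mem hmem' (inv_mem h3)
    rwa [show a⁻¹ * c * (x⁻¹ * c)⁻¹ = a⁻¹ * x by group] at this
  obtain ⟨e, he, f, hf, hef, hefc⟩ := (hS.perpPrim a' ha').pair
  have heq : ∀ y : ↥H, y ∈ E → ¬ Commute c (y : G) := by
    intro y hy cm
    refine h.not_commute (hh.sub y hy) hcD (fun hm => hca ?_) cm.symm
    have h2 := (mul_mem_iff_of_index_two hh.index).2
      (iff_of_false (fun hm' => hh.outside a' ha' (inv_mem_iff.1 hm') : a'⁻¹ ∉ commutator ↥H) (hh.outside y hy))
    rw [hh.der, mem_subgroupOf, Subgroup.coe_mul, Subgroup.coe_inv, haa] at h2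
    have := mul_mem h2 hm
    rwa [show a⁻¹ * (y : G) * ((y : G)⁻¹ * c) = a⁻¹ * c by group] at this
  have hk : e * f ∈ χ.ker := by
    rw [MonoidHom.mem_ker, map_mul, hχ e he.1, hχ f hf.1]; rfl
  have hcomm : Commute c ((e : G) * f) := by
    have hfix : e * f * a' * (e * f)⁻¹ = a' := by
      have : Commute (e * f) a' := (he.2.2.mul_right hf.2.2).symm
      rw [this.eq, mul_inv_cancel_right]
    have h1 := hψc a' ha' ⟨e * f, hk⟩
    rw [hfix] at h1
    have h2 := congrArg (fun y : ↥H => g * (y : G) * g⁻¹) h1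
    simp only [Subgroup.coe_mul, Subgroup.coe_inv, ← hc] at h2
    change c = g * (g⁻¹ * (((e * f : ↥H) : G)) * g * ((ψ a' : ↥H) : G) *
      (g⁻¹ * (((e * f : ↥H) : G)) * g)⁻¹) * g⁻¹ at h2
    rw [Subgroup.coe_mul, show g * (g⁻¹ * ((e : G) * f) * g * ((ψ a' : ↥H) : G) *
      (g⁻¹ * ((e : G) * f) * g)⁻¹) * g⁻¹ = (e : G) * f * c * ((e : G) * f)⁻¹ by rw [hc]; group] at h2
    exact eq_mul_inv_iff_mul_eq.1 h2
  refine hef (Subtype.ext ?_)
  have hE := h.ss.cls.1
  have he' := hh.sub e he.1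
  have hf' := hh.sub f hf.1
  have ee := sq_eq_one hE he'
  have ff := sq_eq_one hE hf'
  have b1 := braid hE he' hcD fun cm => heq e he.1 cm.symm
  have b2 := braid hE hf' hcD fun cm => heq f hf.1 cm.symm
  have k1 : (f : G) * c * f = (e : G) * c * e := by
    calc (f : G) * c * f = ((e : G) * e) * f * c * f := by rw [ee, one_mul]
      _ = e * ((e : G) * f * c) * f := by group
      _ = e * (c * ((e : G) * f)) * f := by rw [hcomm.eq]
      _ = e * c * e * ((f : G) * f) := by group
      _ = e * c * e := by rw [ff, mul_one]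
  rw [b1, b2] at k1
  exact (mul_left_cancel (mul_right_cancel k1)).symm

theorem Half.layer_equiv {a : G} {H : Subgroup G} {E : Set ↥H} (hh : Half D a H E) {B : Type v} [Group B]
    (e : ↥H ≃* B) : Nonempty (↥(layer G) ≃* ↥(commutator B)) := by
  obtain ⟨d⟩ := commutator_equiv e
  exact ⟨((Subgroup.subgroupOfEquivOfLe hh.layer_le).symm.trans (MulEquiv.subgroupCongr hh.der.symm)).trans d⟩

theorem Split.not_small (h : Split D) (hle : Nat.card ↥(layer G) ≤ 3) : False := by
  haveI := h.simple_layer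
  haveI : Nontrivial ↥(layer G) := h.simple_layer.toNontrivial
  have h1 : 1 < Nat.card ↥(layer G) := Finite.one_lt_card
  have hp : (Nat.card ↥(layer G)).Prime := by
    rcases (show Nat.card ↥(layer G) = 2 ∨ Nat.card ↥(layer G) = 3 by omega) with e | e <;> rw [e] <;> norm_num
  haveI := Fact.mk hp
  haveI := isCyclic_of_prime_card (α := ↥(layer G)) rfl
  exact h.not_comm inferInstance

/-- The layer. -/
theorem Split.layer_cases (I : Models.Inputs.{u}) (h : Split D) :
    Nonempty (↥(layer G) ≃* ↥(Cfsg.Omega (ZMod 2) (Cfsg.quadFormPlus 4 (ZMod 2)))) ∨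
      Nonempty (↥(layer G) ≃* Cfsg.POmega (ZMod 3) (Cfsg.quadFormPlus 4 (ZMod 3))) := by
  obtain ⟨a, ha, -⟩ := h.exists_outside
  obtain ⟨H, E, hh⟩ := h.exists_half ha
  have hR := hh.rich
  have hI := Models.Invols.of_class hR.cls
  have hgen := hR.cls.2.2
  have hL0 := h.center_layer
  have h3 := h.three_dvd
  have sym : ∀ n, 5 ≤ n → SymLike E n → False := by
    intro n hn hs
    obtain ⟨e, -⟩ := Models.sym_model hI hgen hh.cen hs hn
    obtain ⟨d⟩ := hh.layer_equiv e
    refine not_three_of_equiv (d.trans (MulEquiv.subgroupCongr ?_)) (alternating_out hn) h3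
    exact alternatingGroup.commutator_perm_eq (by simpa using hn)
  rcases Models.classify I.pieces hR hh.cen with hs | ⟨n, hn, hs⟩ | ⟨n, hn, hs⟩ | ⟨hS, hB⟩
  · exact (sym 5 le_rfl hs).elim
  · exfalso
    obtain ⟨m, e, -⟩ := Models.sp_model hI hgen hh.cen hs hn
    rcases (show m = 0 ∨ m = 1 ∨ m = 2 ∨ 3 ≤ m by omega) with rfl | rfl | rfl | h3m
    · refine hh.proper (eq_top_iff.2 fun x _ => ?_)
      have : Subsingleton ↥H := e.toEquiv.subsingleton
      rw [Subsingleton.elim x 1]
      exact one_mem _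
    · have hc : Nat.card ↥H = 6 := (Nat.card_congr e.toEquiv).trans card_sp_one
      have hd := (commutator ↥H).card_mul_index
      rw [hh.index, hc, hh.der, Nat.card_congr (Subgroup.subgroupOfEquivOfLe hh.layer_le).toEquiv] at hd
      exact h.not_small (by omega)
    · obtain ⟨e6⟩ := Cfsg.Agent.S0247.result (F := ZMod 2) (ZMod.card 2)
      obtain ⟨d⟩ := hh.layer_equiv (e.trans e6)
      refine not_three_of_equiv (d.trans (MulEquiv.subgroupCongr ?_)) (alternating_out (by norm_num)) h3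
      exact alternatingGroup.commutator_perm_eq (by simp)
    · refine hh.proper ?_
      rw [← map_top_of_surjective e.symm.toMonoidHom e.symm.surjective, ← Cfsg.Agent.S0269.result (F := ZMod 2) m (Or.inl h3m),
        _root_.commutator_def, _root_.commutator_def, map_commutator, map_top_of_surjective _ e.symm.surjective]
  · exfalso
    obtain ⟨e, -⟩ := Models.u_iso hI hgen hh.cen hs hn
    haveI := Cfsg.Agent.S0283.result (F := KQuad) (q := 2) KQuad.card_eq n (by omega) (by omega)
    haveI : IsSimpleGroup ↥H := e.isSimpleGroup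
    rcases IsSimpleGroup.eq_bot_or_eq_top_of_normal (commutator ↥H) inferInstance with hb | ht
    · have hd := (commutator ↥H).card_mul_index
      rw [hh.index, hb, Subgroup.card_bot, one_mul] at hd
      have hH : Nat.card ↥(layer G) ≤ Nat.card ↥H := Subgroup.card_le_of_le hh.layer_le
      exact h.not_small (by omega)
    · exact hh.proper ht
  have hDG : IsThreeTranspositionGroup E := ⟨hR.cls.1, fun g d hd => ThreeTr.conj_mem hR.cls g hd, hgen⟩
  rcases hB with ⟨n, hn, hs⟩ | ⟨n, hn, hs⟩ | ⟨n, δ, hn, hs⟩ | hs | hs | hs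
  · exact (sym n (by omega) hs).elim
  · rcases Models.o_model hI hgen hh.cen hs hn with ⟨m, hm, e, -⟩ | ⟨m, hm, e, -⟩
    · obtain ⟨d⟩ := hh.layer_equiv e
      rcases (orth_cases hL0).1 m hm d with h' | h'
      · exact absurd h3 h'
      · exact Or.inl h'
    · obtain ⟨d⟩ := hh.layer_equiv e
      exact absurd h3 ((orth_cases hL0).2 m hm d)
  · obtain ⟨Q, hQ, e, -⟩ := Models.r_iso hI hgen hh.cen hs hn
    obtain ⟨d⟩ := hh.layer_equiv e
    obtain ⟨d'⟩ := refl_layer hQ (by omega) hL0 d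
    rcases refl_cases hQ hn d' with h' | h'
    · exact absurd h3 h'
    · exact Or.inr h'
  · exact absurd (M22.mk' hDG hR.prim (I.typeM22 _ E hS hs)).commutator_eq_top hh.proper
  · exact absurd (M23.mk' hDG hR.prim (I.typeM23 _ E hS hs)).commutator_eq_top hh.proper
  · exact (h.not_m24 ha hh hS (Cfsg.Lib.ThreeTr.M24.mk' hDG hR.prim (I.typeM24 _ E hS hs))).elim

end Cfsg.Lib.Fischer.Disc
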