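import Cfsg.Agent.Fischer.Disc.Setup
import Cfsg.Agent.OutSol.Known.Base
import Cfsg.Agent.S2607
import Cfsg.Agent.S2608

/-!
Three classes: a generating class of involutions without commuting pairs inside the symmetric group of degree four.
-/

set_option autoImplicit false
set_option linter.unusedSectionVars false
set_option linter.style.haveILetI false

namespace Cfsg.Lib.Fischer.Disc

open Cfsg Subgroup Cfsg.Lib.ThreeTr

universe u v

set_option maxHeartbeats 1000000 in
set_option synthInstance.maxSize 2048 in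
theorem three_members : ∀ x : Equiv.Perm (Fin 4), x * x = 1 → ∀ y : Equiv.Perm (Fin 4), y * y = 1 →
    x * y ≠ y * x → x * y * (x * y) * (x * y) = 1 → ∀ z : Equiv.Perm (Fin 4), z * z = 1 →
    (z = x ∨ (z * x ≠ x * z ∧ z * x * (z * x) * (z * x) = 1)) →
    (z = y ∨ (z * y ≠ y * z ∧ z * y * (z * y) * (z * y) = 1)) →
    (z = x * y * x ∨ z * (x * y * x) ≠ x * y * x * z) → z = x ∨ z = y ∨ z = x * y * x := by decide +kernel

set_option maxHeartbeats 1000000 in
theorem faithful_pair : ∀ x : Equiv.Perm (Fin 4), x * x = 1 → ∀ y : Equiv.Perm (Fin 4), y * y = 1 →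
    x * y ≠ y * x → x * y * (x * y) * (x * y) = 1 → ∀ g : Equiv.Perm (Fin 4), g * x = x * g → g * y = y * g → g = 1 := by
  decide +kernel

variable {G : Type u} [Group G] [Finite G] {D : Set G}

theorem Split.quotient_iso (h : Split D) (f : G ⧸ layer G →* Equiv.Perm (Fin 4)) (hf : Function.Injective f) :
    Nonempty (G ⧸ layer G ≃* Equiv.Perm (Fin 3)) := by
  classical
  set L := layer G with hL
  have hcls := h.ss.cls
  let S : Set (G ⧸ L) := QuotientGroup.mk '' D
  have hsq : ∀ s ∈ S, s * s = 1 := by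
    rintro _ ⟨x, hx, rfl⟩
    rw [← QuotientGroup.mk_mul, sq_eq_one hcls.1 hx, QuotientGroup.mk_one]
  have hne1 : ∀ s ∈ S, s ≠ 1 := by
    rintro _ ⟨x, hx, rfl⟩ e
    exact h.not_mem_layer hx ((QuotientGroup.eq_one_iff x).1 e)
  have hclosed : ∀ g : G ⧸ L, ∀ s ∈ S, g * s * g⁻¹ ∈ S := by
    rintro g _ ⟨x, hx, rfl⟩
    obtain ⟨k, rfl⟩ := QuotientGroup.mk_surjective g
    exact ⟨k * x * k⁻¹, ThreeTr.conj_mem hcls k hx, by simp⟩
  have hgen : closure S = ⊤ := by
    rw [show S = QuotientGroup.mk' L '' D from rfl, ← MonoidHom.map_closure, hcls.2.2,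
      map_top_of_surjective _ (QuotientGroup.mk'_surjective L)]
  have hpair : ∀ s ∈ S, ∀ t ∈ S, s ≠ t → s * t ≠ t * s ∧ s * t * (s * t) * (s * t) = 1 := by
    rintro _ ⟨x, hx, rfl⟩ _ ⟨y, hy, rfl⟩ hst
    have hn := h.not_commute hx hy fun hm => hst (QuotientGroup.eq.2 hm)
    have h3 : ((x : G ⧸ L) * y) * ((x : G ⧸ L) * y) * ((x : G ⧸ L) * y) = 1 := by
      rw [← pow_three', ← QuotientGroup.mk_mul, ← QuotientGroup.mk_pow, cube_of_not_commute hcls.1 hx hy hn,
        QuotientGroup.mk_one]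
    refine ⟨fun c => hst ?_, h3⟩
    have h2 : ((x : G ⧸ L) * y) * ((x : G ⧸ L) * y) = 1 := by
      calc ((x : G ⧸ L) * y) * ((x : G ⧸ L) * y) = ((x : G ⧸ L) * y) * ((y : G ⧸ L) * x) := by rw [← c]
        _ = (x : G ⧸ L) * ((y : G ⧸ L) * y) * x := by simp only [mul_assoc]
        _ = 1 := by rw [hsq _ ⟨y, hy, rfl⟩, mul_one, hsq _ ⟨x, hx, rfl⟩]
    rw [h2, one_mul] at h3
    rw [eq_inv_of_mul_eq_one_left h3, inv_eq_of_mul_eq_one_right (hsq _ ⟨y, hy, rfl⟩)]
  obtain ⟨a, ha, b, hb, hab⟩ := h.exists_outside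
  set p : G ⧸ L := (a : G ⧸ L)
  set q : G ⧸ L := (b : G ⧸ L)
  have hp : p ∈ S := ⟨a, ha, rfl⟩
  have hq : q ∈ S := ⟨b, hb, rfl⟩
  have hpq : p ≠ q := fun e => hab (QuotientGroup.eq.1 e)
  have hr : p * q * p ∈ S := by
    have := hclosed p q hq
    rwa [inv_eq_of_mul_eq_one_right (hsq p hp)] at this
  obtain ⟨hpqc, hpq3⟩ := hpair p hp q hq hpq
  have ftr : ∀ {s t : G ⧸ L}, s * t ≠ t * s → f s * f t ≠ f t * f s := fun hst e =>
    hst (hf (by rw [map_mul, map_mul, e]))
  have hfsq : ∀ s ∈ S, f s * f s = 1 := fun s hs => by rw [← map_mul, hsq s hs, map_one]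
  have hf3 : f p * f q * (f p * f q) * (f p * f q) = 1 := by
    rw [← map_mul, ← map_mul, ← map_mul, hpq3, map_one]
  have hthree : S = {p, q, p * q * p} := by
    refine Set.Subset.antisymm (fun s hs => ?_) (by rintro s (rfl | rfl | rfl) <;> assumption)
    have cond : ∀ t ∈ S, f s = f t ∨ (f s * f t ≠ f t * f s ∧ f s * f t * (f s * f t) * (f s * f t) = 1) := by
      intro t ht
      rcases eq_or_ne s t with rfl | hst
      · exact Or.inl rfl
      · exact Or.inr ⟨ftr (hpair s hs t ht hst).1, by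
          rw [← map_mul, ← map_mul, ← map_mul, (hpair s hs t ht hst).2, map_one]⟩
    have e : f (p * q * p) = f p * f q * f p := by rw [map_mul, map_mul]
    rcases three_members (f p) (hfsq p hp) (f q) (hfsq q hq) (ftr hpqc) hf3 (f s) (hfsq s hs) (cond p hp) (cond q hq)
      (by rw [← e]; exact (cond _ hr).imp_right And.left) with h1 | h1 | h1
    · exact Or.inl (hf h1)
    · exact Or.inr (Or.inl (hf h1))
    · exact Or.inr (Or.inr (hf (h1.trans e.symm)))
  have h1 : p ≠ p * q * p := fun e => hne1 q hq (by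
    have := congrArg (fun w => p * w * p) e
    simp only [hsq p hp, one_mul] at this
    rw [show p * (p * q * p) * p = (p * p) * q * (p * p) by simp only [mul_assoc], hsq p hp, one_mul, mul_one] at this
    exact absurd this hpq)
  have h2 : q ≠ p * q * p := fun e => hpqc (by
    calc p * q = p * q * (p * p) := by rw [hsq p hp, mul_one]
      _ = p * q * p * p := by simp only [mul_assoc]
      _ = q * p := by rw [← e])
  have hcard : S.ncard = 3 := by
    rw [hthree]
    exact Set.ncard_eq_three.2 ⟨_, _, _, hpq, h1, h2, rfl⟩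
  haveI : Fintype ↥S := Fintype.ofFinite _
  obtain ⟨E⟩ : Nonempty (↥S ≃ Fin 3) := ⟨Fintype.equivOfCardEq (by
    rw [← Nat.card_eq_fintype_card, Nat.card_coe_set_eq, hcard]; rfl)⟩
  let act : G ⧸ L →* Equiv.Perm ↥S :=
    { toFun := fun g =>
        { toFun := fun s => ⟨g * s * g⁻¹, hclosed g s s.2⟩
          invFun := fun s => ⟨g⁻¹ * s * g, (show g⁻¹ * (s : G ⧸ L) * g⁻¹⁻¹ = g⁻¹ * s * g by group) ▸ hclosed g⁻¹ s s.2⟩
          left_inv := fun s => Subtype.ext (by group)
          right_inv := fun s => Subtype.ext (by group) }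
      map_one' := Equiv.ext fun s => Subtype.ext (by simp)
      map_mul' := fun g k => Equiv.ext fun s => Subtype.ext (by
        show g * k * s * (g * k)⁻¹ = g * (k * s * k⁻¹) * g⁻¹
        group) }
  let θ : G ⧸ L →* Equiv.Perm (Fin 3) := E.permCongrHom.toMonoidHom.comp act
  have hθ : Function.Injective θ := by
    rw [injective_iff_map_eq_one]
    intro g hg
    have hg' : act g = 1 := E.permCongrHom.injective (by rw [map_one]; exact hg)
    have hfix : ∀ s ∈ S, f g * f s = f s * f g := fun s hs => by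
      have := congrArg Subtype.val (Equiv.ext_iff.1 hg' ⟨s, hs⟩)
      change g * s * g⁻¹ = s at this
      rw [← map_mul, mul_inv_eq_iff_eq_mul.1 this, map_mul]
    exact hf ((faithful_pair (f p) (hfsq p hp) (f q) (hfsq q hq) (ftr hpqc) hf3 (f g) (hfix p hp) (hfix q hq)).trans
      (map_one f).symm)
  have hdvd := Subgroup.card_dvd_of_injective θ hθ
  have h3 : orderOf (p * q) = 3 := by
    haveI : Fact (Nat.Prime 3) := ⟨Nat.prime_three⟩
    refine orderOf_eq_prime (by rw [pow_three']; exact hpq3) fun e => hpq ?_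
    rw [eq_inv_of_mul_eq_one_left e, inv_eq_of_mul_eq_one_right (hsq q hq)]
  have h2' : orderOf p = 2 := by
    haveI : Fact (Nat.Prime 2) := ⟨Nat.prime_two⟩
    exact orderOf_eq_prime (by rw [pow_two]; exact hsq p hp) (hne1 p hp)
  have d3 := h3 ▸ orderOf_dvd_natCard (p * q)
  have d2 := h2' ▸ orderOf_dvd_natCard p
  have h6 : Nat.card (G ⧸ L) = 6 := by
    rw [Nat.card_eq_fintype_card (α := Equiv.Perm (Fin 3)), Fintype.card_perm, Fintype.card_fin] at hdvd
    have hle := Nat.le_of_dvd (by decide) hdvd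
    have h6' : 6 ∣ Nat.card (G ⧸ L) := Nat.Coprime.mul_dvd_of_dvd_of_dvd (by norm_num) d2 d3
    exact Nat.dvd_antisymm (by simpa [Nat.factorial] using hdvd) h6'
  refine ⟨MulEquiv.ofBijective θ ((Nat.bijective_iff_injective_and_card θ).2 ⟨hθ, ?_⟩)⟩
  rw [h6, Nat.card_eq_fintype_card, Fintype.card_perm, Fintype.card_fin]
  rfl

theorem prod_perm_hom {Z : Type v} [Group Z] (e : Z ≃* Equiv.Perm (Fin 4) × Multiplicative (ZMod 1)) :
    ∃ f : Z →* Equiv.Perm (Fin 4), Function.Injective f := by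
  refine ⟨(MonoidHom.fst _ _).comp e.toMonoidHom, fun x y hxy => e.injective (Prod.ext hxy ?_)⟩
  exact Subsingleton.elim _ _

/-- Embedding degree three in degree four. -/
theorem perm_hom {Z : Type v} [Group Z] (e : Z ≃* Equiv.Perm (Fin 3) × Multiplicative (ZMod 1)) :
    ∃ f : Z →* Equiv.Perm (Fin 4), Function.Injective f := by
  let p : Fin 4 → Prop := fun i => i ≠ 3
  let E : Fin 3 ≃ {i : Fin 4 // p i} := (finSuccAboveEquiv (3 : Fin 4))
  let ι : Equiv.Perm (Fin 3) →* Equiv.Perm (Fin 4) := Equiv.Perm.extendDomainHom E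
  refine ⟨ι.comp ((MonoidHom.fst _ _).comp e.toMonoidHom), fun x y hxy => e.injective (Prod.ext ?_ ?_)⟩
  · exact Equiv.Perm.extendDomainHom_injective E hxy
  · exact Subsingleton.elim _ _

theorem Split.quotient_plus (h : Split D)
    (hL : Nonempty (↥(layer G) ≃* Cfsg.POmega (ZMod 2) (Cfsg.quadFormPlus 4 (ZMod 2))) ∨
      Nonempty (↥(layer G) ≃* Cfsg.POmega (ZMod 3) (Cfsg.quadFormPlus 4 (ZMod 3)))) :
    Nonempty (G ⧸ layer G ≃* Equiv.Perm (Fin 3)) := by
  obtain ⟨ψ, hψ⟩ := h.exists_embedding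
  rcases hL with hd | hd <;> obtain ⟨d⟩ := hd
  · haveI : Fact (Nat.Prime 2) := ⟨Nat.prime_two⟩
    have h4 := Cfsg.Agent.S2607.result (F := ZMod 2) (f := 1) (m := 4) le_rfl (by rw [ZMod.card, pow_one]) le_rfl
    rw [if_pos rfl] at h4
    obtain ⟨e⟩ := h4
    obtain ⟨f, hf⟩ := perm_hom ((Cfsg.Lib.OutKnown.outCongr d).trans e)
    exact h.quotient_iso (f.comp ψ) (hf.comp hψ)
  · haveI : Fact (Nat.Prime 3) := ⟨Nat.prime_three⟩
    have h4 := Cfsg.Agent.S2608.result (F := ZMod 3) (p := 3) (f := 1) (m := 4) le_rfl (by rw [ZMod.card, pow_one])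
      (by norm_num) le_rfl
    rw [if_pos rfl] at h4
    obtain ⟨e⟩ := h4
    obtain ⟨f, hf⟩ := prod_perm_hom ((Cfsg.Lib.OutKnown.outCongr d).trans e)
    exact h.quotient_iso (f.comp ψ) (hf.comp hψ)

end Cfsg.Lib.Fischer.Disc
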