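import Cfsg.Agent.Fischer.Disc.Layer
import Cfsg.Agent.Fischer.Disc.Quot
import Cfsg.Agent.Fischer.Climb.Steps
import Cfsg.Agent.Fischer.SymStep
import Cfsg.Agent.Fischer.StepSp.Main
import Cfsg.Agent.Fischer.ExclO
import Cfsg.Agent.Fischer.ExclU
import Cfsg.Agent.Fischer.Refl.Main
import Cfsg.Agent.Fischer.Coincidences.Main
import Cfsg.Agent.Fischer.Models.Types

/-!
A class of 3-transpositions with disconnected commuting graph.
-/

set_option autoImplicit false

namespace Cfsg.Lib.Fischer.Disc

open Cfsg Subgroup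

universe u

theorem all_inputs : Models.Inputs.{u} where
  pieces :=
    { symFive := SymStep.stepSymFive
      sym := SymStep.stepSym
      sp := SpUp.stepSp
      exclO := OExcl.exclO
      exclU := exclU
      refl := Refl.stepR
      uSix := Climb.stepUSix Coinc.coincidences Refl.stepR
      mTwentyTwo := Climb.stepMTwentyTwo Refl.stepR
      mTwentyThree := Climb.stepMTwentyThree Refl.stepR
      exclM := Climb.exclMTwentyFour
      coinc := Coinc.coincidences }
  typeM22 := fun _ _ _ _ hS h => Models.isOfTypeM22 hS h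
  typeM23 := fun _ _ _ _ hS h => Models.isOfTypeM23 hS h
  typeM24 := fun _ _ _ _ hS h => Models.isOfTypeM24 hS h

variable {G : Type u} [Group G] [Finite G] {D : Set G}

theorem Split.main (h : Split D) :
    Nonempty (G ⧸ layer G ≃* Equiv.Perm (Fin 3)) ∧
      (Nonempty (↥(layer G) ≃* ↥(Cfsg.Omega (ZMod 2) (Cfsg.quadFormPlus 4 (ZMod 2)))) ∨
        Nonempty (↥(layer G) ≃* Cfsg.POmega (ZMod 3) (Cfsg.quadFormPlus 4 (ZMod 3)))) := by
  have hL := h.layer_cases all_inputs
  refine ⟨h.quotient_plus (hL.imp_left fun hh => ?_), hL⟩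
  obtain ⟨e⟩ := hh
  exact quot_center_of_iso e h.center_layer

end Cfsg.Lib.Fischer.Disc
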